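import Mathlib

/-!
# A Nakayama-type lemma: linear forms over a local ring all of whose constant combinations are onto.
-/

set_option autoImplicit false
universe u v w

namespace Groth.Agent.H5.NegFilt

open IsLocalRing

lemma sum_single_smul {k : Type u} {A : Type v} {M : Type w} [Field k] [CommRing A]
    [AddCommGroup M] [Module A M] (ρ : k →+* A) {n : ℕ} (φ : Fin n → M →ₗ[A] A) (j : Fin n) :
    ∑ i, ρ ((Pi.single j 1 : Fin n → k) i) • φ i = φ j := by
  rw [Finset.sum_eq_single j]
  · rw [Pi.single_eq_same, map_one, one_smul]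
  · intro i _ hij
    rw [Pi.single_eq_of_ne hij, map_zero, zero_smul]
  · intro h
    exact absurd (Finset.mem_univ j) h

/-- **Nakayama for constant combinations**: let `A` be a local ring whose residue field is hit by
`ρ : k → A`; if every nonzero `k`-combination of the linear forms `φ i : M → A` is onto, then
`(φ i) : M → A^d` is onto. -/
theorem exists_simultaneous {k : Type u} {A : Type v} [Field k] [CommRing A] [IsLocalRing A]
    (ρ : k →+* A) (hres : ∀ a : A, ∃ c : k, a - ρ c ∈ maximalIdeal A) :
    ∀ (d : ℕ) {M : Type w} [AddCommGroup M] [Module A M] (φ : Fin d → M →ₗ[A] A),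
      (∀ c : Fin d → k, c ≠ 0 → Function.Surjective (∑ i, ρ (c i) • φ i : M →ₗ[A] A)) →
      ∀ b : Fin d → A, ∃ x : M, ∀ i, φ i x = b i := by
  intro d
  induction d with
  | zero =>
    intro M _ _ φ _ b
    exact ⟨0, fun i => i.elim0⟩
  | succ d ih =>
    intro M _ _ φ h b
    have h0 : Function.Surjective (φ 0) := by
      have h1 := h (Pi.single 0 1) (by
        intro hc
        have := congrFun hc 0
        rw [Pi.single_eq_same] at this
        exact one_ne_zero this)
      rwa [sum_single_smul] at h1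
    obtain ⟨n₀, hn₀⟩ := h0 1
    choose cc hcc using fun i : Fin d => hres (φ i.succ n₀)
    let K : Submodule A M := LinearMap.ker (φ 0)
    let φ' : Fin d → M →ₗ[A] A := fun i => φ i.succ - ρ (cc i) • φ 0
    let φ'' : Fin d → K →ₗ[A] A := fun i => (φ' i).domRestrict K
    have hK : ∀ c' : Fin d → k, c' ≠ 0 →
        Function.Surjective (∑ i, ρ (c' i) • φ'' i : K →ₗ[A] A) := by
      intro c' hc' t
      let c : Fin (d + 1) → k := Fin.cons (-(∑ i, c' i * cc i)) c'
      have hc : c ≠ 0 := by
        intro hc0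
        apply hc'
        funext i
        have := congrFun hc0 i.succ
        simpa [c] using this
      have hψ : ∑ j, ρ (c j) • φ j = ∑ i, ρ (c' i) • φ' i := by
        apply LinearMap.ext
        intro z
        rw [Fin.sum_univ_succ]
        simp only [c, φ', Fin.cons_zero, Fin.cons_succ, LinearMap.add_apply, LinearMap.sum_apply,
          LinearMap.smul_apply, LinearMap.sub_apply, smul_eq_mul, map_neg, map_sum, map_mul, mul_sub,
          Finset.sum_sub_distrib, neg_mul, Finset.sum_mul, mul_assoc]
        ring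
      have hsurj := h c hc
      rw [hψ] at hsurj
      obtain ⟨y, hy⟩ := hsurj 1
      set ψ : M →ₗ[A] A := ∑ i, ρ (c' i) • φ' i with hψdef
      have hψn : ψ n₀ ∈ maximalIdeal A := by
        rw [hψdef, LinearMap.sum_apply]
        apply Ideal.sum_mem
        intro i _
        rw [LinearMap.smul_apply, smul_eq_mul]
        apply Ideal.mul_mem_left
        change (φ i.succ - ρ (cc i) • φ 0) n₀ ∈ _
        rw [LinearMap.sub_apply, LinearMap.smul_apply, hn₀, smul_eq_mul, mul_one]
        exact hcc i
      have hmem : φ 0 y * ψ n₀ ∈ nonunits A :=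
        (IsLocalRing.mem_maximalIdeal _).mp (Ideal.mul_mem_left _ _ hψn)
      have hu : IsUnit (1 - φ 0 y * ψ n₀) := IsLocalRing.isUnit_one_sub_self_of_mem_nonunits _ hmem
      obtain ⟨v, hv⟩ := hu.exists_right_inv
      let y' : M := y - (φ 0 y) • n₀
      have hy'K : y' ∈ K := by
        change φ 0 (y - (φ 0 y) • n₀) = 0
        rw [map_sub, map_smul, hn₀, smul_eq_mul, mul_one, sub_self]
      have hψy' : ψ y' = 1 - φ 0 y * ψ n₀ := by
        change ψ (y - (φ 0 y) • n₀) = _
        rw [map_sub, map_smul, hy, smul_eq_mul]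
      refine ⟨⟨(t * v) • y', K.smul_mem _ hy'K⟩, ?_⟩
      have : (∑ i, ρ (c' i) • φ'' i) ⟨(t * v) • y', K.smul_mem _ hy'K⟩ = ψ ((t * v) • y') := by
        rw [hψdef, LinearMap.sum_apply, LinearMap.sum_apply]
        rfl
      rw [this, map_smul, hψy', smul_eq_mul, mul_assoc, mul_comm v, hv, mul_one]
    obtain ⟨xK, hxK⟩ := ih φ'' hK (fun i => b i.succ - b 0 * φ i.succ n₀)
    have hxK0 : φ 0 (xK : M) = 0 := xK.2
    refine ⟨(xK : M) + b 0 • n₀, ?_⟩
    intro j
    refine Fin.cases ?_ (fun i => ?_) j
    · rw [map_add, map_smul, hxK0, hn₀, smul_eq_mul, mul_one, zero_add]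
    · have h1 : φ'' i xK = φ i.succ (xK : M) - ρ (cc i) * φ 0 (xK : M) := rfl
      rw [hxK i, hxK0, mul_zero, sub_zero] at h1
      rw [map_add, map_smul, ← h1, smul_eq_mul]
      ring

end Groth.Agent.H5.NegFilt
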