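import Mathlib
import Groth.Agent.Lib.Helper5.NegFilt.LA
import Groth.Agent.Lib.Helper5.SD.GGvb
import Groth.Agent.H4.SPt6
import Groth.Agent.H4.LFP1
import Groth.Agent.Lib.Lead.QC.UnitIso
import Groth.Agent.Lib.Lead.DF.ZProp

/-!
# Morphisms to the structure sheaf all of whose constant combinations are epimorphisms.
-/

set_option autoImplicit false
set_option linter.style.haveILetI false
universe u
open CategoryTheory CategoryTheory.Limits AlgebraicGeometry TopologicalSpace Opposite

namespace Groth.Agent.H5.NegFilt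

open Groth.Agent.LD Groth.Agent.LD.QC Groth.Agent.LD.DF

variable (k : Type u) [Field k] (X : Scheme.{u}) [X.Over (Spec (CommRingCat.of k))]
  [IsProper (X ↘ Spec (CommRingCat.of k))]

/-- the constants, as germs at `x`. -/
noncomputable def constGerm (x : X) : k →+* X.presheaf.stalk x :=
  (X.presheaf.germ ⊤ x trivial).hom.comp (Coh.toGlobal (X ↘ Spec (CommRingCat.of k)))

/-- over an algebraically closed field, every germ at a closed point is a constant modulo the
maximal ideal. -/
theorem exists_const_sub_mem [IsAlgClosed k] (x : X) (hx : IsClosed ({x} : Set X))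
    (a : X.presheaf.stalk x) :
    ∃ c : k, a - constGerm k X x c ∈ IsLocalRing.maximalIdeal (X.presheaf.stalk x) := by
  let f := X ↘ Spec (CommRingCat.of k)
  let e := residueFieldIsoBase f x hx
  have hf : f = X.toSpecΓ ≫ Spec.map ((Scheme.ΓSpecIso (CommRingCat.of k)).inv ≫ f.appTop) := by
    rw [Spec.map_comp, ← Scheme.toSpecΓ_naturality_assoc, toSpecΓ_SpecMap_ΓSpecIso_inv,
      Category.comp_id]
  have h1 : Spec.map e.inv = Spec.map (((Scheme.ΓSpecIso (CommRingCat.of k)).inv ≫ f.appTop) ≫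
      X.presheaf.germ ⊤ x trivial ≫ X.residue x) := by
    rw [SpecMap_residueFieldIsoBase_inv, Scheme.fromSpecResidueField, Category.assoc]
    conv_lhs => rw [hf]
    rw [Scheme.fromSpecStalk_toSpecΓ_assoc, ← Spec.map_comp, ← Spec.map_comp]
    simp only [Category.assoc]
  have h2 := Spec.map_injective h1
  refine ⟨e.hom.hom (X.residue x a), ?_⟩
  rw [← IsLocalRing.residue_eq_zero_iff, map_sub, sub_eq_zero]
  have h3 : e.inv.hom (e.hom.hom (X.residue x a)) = X.residue x a := by
    have := congrArg (fun g => g.hom (X.residue x a)) e.hom_inv_id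
    exact this
  rw [h2] at h3
  exact h3.symm

omit [IsProper (X ↘ Spec (CommRingCat.of k))] in
/-- the stalk of a scalar multiple. -/
theorem stalkFunctor_map_smul_apply (x : X) {M N : X.Modules} (c : k) (φ : M ⟶ N)
    (m : M.presheaf.stalk x) :
    ((DerSch.stalkFunctor X x).map (c • φ)).hom m =
      constGerm k X x c • ((DerSch.stalkFunctor X x).map φ).hom m := by
  obtain ⟨U, hxU, s, rfl⟩ := M.presheaf.exists_germ_eq (x := x) m
  change (DerSch.stalkFunctor X x).map (c • φ) (M.presheaf.germ U x hxU s) =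
    constGerm k X x c • (DerSch.stalkFunctor X x).map φ (M.presheaf.germ U x hxU s)
  rw [DerSch.stalkFunctor_map_germ, DerSch.stalkFunctor_map_germ, KLin.smul_app_apply, germ_smul,
    sgerm_res]
  rfl

omit [IsProper (X ↘ Spec (CommRingCat.of k))] [X.Over (Spec (CommRingCat.of k))] in
lemma sum_ι_proj (N : X.Modules) {d : ℕ} (φ : Fin d → (N ⟶ unitMod X)) (i : Fin d) :
    (∑ j, φ j ≫ Sigma.ι (fun _ : Fin d => unitMod X) j : N ⟶ FlatMod.freeMod X d) ≫
      freeModProj d i = φ i := by
  rw [Preadditive.sum_comp, Finset.sum_eq_single i]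
  · rw [Category.assoc, freeModProj, Sigma.ι_desc, if_pos rfl, Category.comp_id]
  · intro j _ hji
    rw [Category.assoc, freeModProj, Sigma.ι_desc, if_neg hji, comp_zero]
  · intro h
    exact absurd (Finset.mem_univ i) h

/-- **stalkwise surjectivity**. -/
theorem stalk_surjective_of_forall_combo [IsAlgClosed k] (N : X.Modules) {d : ℕ}
    (φ : Fin d → (N ⟶ unitMod X))
    (h : ∀ c : Fin d → k, c ≠ 0 → Epi (∑ i, c i • φ i))
    (x : X) (hx : IsClosed ({x} : Set X)) :
    Function.Surjective ((DerSch.stalkFunctor X x).map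
      (∑ i, φ i ≫ Sigma.ι (fun _ : Fin d => unitMod X) i : N ⟶ FlatMod.freeMod X d)).hom := by
  let Φ := DerSch.stalkFunctor X x
  let A := X.presheaf.stalk x
  obtain ⟨ψ, hψ⟩ : ∃ ψ : N ⟶ FlatMod.freeMod X d,
      ψ = ∑ i, φ i ≫ Sigma.ι (fun _ : Fin d => unitMod X) i := ⟨_, rfl⟩
  rw [← hψ]
  obtain ⟨hfree, hfin, hrk⟩ := Groth.Agent.H4.LFP1.stalk_of_isFinLocFreeOfRank 1 (unitMod X)
    ((isInvertible_iff _).mp (isInvertible_unit X)) x
  haveI := hfree
  haveI := hfin
  let e : (unitMod X).presheaf.stalk x ≃ₗ[A] A :=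
    (Module.finBasisOfFinrankEq A _ hrk).equivFun ≪≫ₗ LinearEquiv.funUnique (Fin 1) A A
  let φA : Fin d → (N.presheaf.stalk x) →ₗ[A] A := fun i => e.toLinearMap ∘ₗ (Φ.map (φ i)).hom
  have hcombo : ∀ c : Fin d → k, c ≠ 0 →
      Function.Surjective (∑ i, constGerm k X x (c i) • φA i : (N.presheaf.stalk x) →ₗ[A] A) := by
    intro c hc
    haveI := h c hc
    haveI : Epi (Φ.map (∑ i, c i • φ i)) := Φ.map_epi _
    have hs : Function.Surjective (Φ.map (∑ i, c i • φ i)).hom :=
      (ModuleCat.epi_iff_surjective _).mp inferInstance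
    have heq : ∀ m : Φ.obj N,
        (∑ i, constGerm k X x (c i) • φA i : (N.presheaf.stalk x) →ₗ[A] A) m =
        e ((Φ.map (∑ i, c i • φ i)).hom m) := by
      intro m
      have hL : (Φ.map (∑ i, c i • φ i)).hom m = ∑ i, (Φ.map (c i • φ i)).hom m := by
        rw [Functor.map_sum, ModuleCat.hom_sum, LinearMap.sum_apply]
      have h5 : (∑ i, constGerm k X x (c i) • φA i : (N.presheaf.stalk x) →ₗ[A] A) m =
          ∑ i, (constGerm k X x (c i) • φA i) m := LinearMap.sum_apply _ _ _
      have h6 : e (∑ i, (Φ.map (c i • φ i)).hom m) = ∑ i, e ((Φ.map (c i • φ i)).hom m) :=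
        map_sum e _ _
      rw [hL]
      refine h5.trans ((Finset.sum_congr rfl (fun i _ => ?_)).trans h6.symm)
      have h7 := stalkFunctor_map_smul_apply k X x (c i) (φ i) m
      calc (constGerm k X x (c i) • φA i) m
          = constGerm k X x (c i) • e ((Φ.map (φ i)).hom m) := rfl
        _ = e (constGerm k X x (c i) • (Φ.map (φ i)).hom m) := (map_smul e _ _).symm
        _ = e ((Φ.map (c i • φ i)).hom m) := congrArg e h7.symm
    intro t
    obtain ⟨m, hm⟩ := hs (e.symm t)
    exact ⟨m, by rw [heq, hm, LinearEquiv.apply_symm_apply]⟩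
  intro y
  obtain ⟨m, hm⟩ := exists_simultaneous (constGerm k X x) (exists_const_sub_mem k X x hx) d φA
    hcombo (fun i => e ((Φ.map (freeModProj d i)).hom y))
  refine ⟨m, ?_⟩
  have hz : ∀ z : (FlatMod.freeMod X d).presheaf.stalk x,
      (∀ i, (Φ.map (freeModProj (X := X) d i)).hom z = 0) → z = 0 := by
    intro z hz
    have h1 : (Φ.map (𝟙 (FlatMod.freeMod X d))).hom z = z := by
      rw [Φ.map_id]
      rfl
    rw [← freeMod_total, Functor.map_sum, ModuleCat.hom_sum, LinearMap.sum_apply] at h1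
    rw [← h1]
    apply Finset.sum_eq_zero
    intro i _
    rw [Functor.map_comp, ModuleCat.hom_comp, LinearMap.comp_apply, hz i, map_zero]
    rfl
  have hsub : (Φ.map ψ).hom m - y = 0 := by
    apply hz
    intro i
    rw [map_sub, sub_eq_zero]
    have h3 : (Φ.map (freeModProj (X := X) d i)).hom ((Φ.map ψ).hom m) = (Φ.map (φ i)).hom m := by
      rw [← sum_ι_proj X N φ i, ← hψ, Functor.map_comp]
      rfl
    rw [h3]
    exact e.injective (hm i)
  exact sub_eq_zero.mp hsub

/-- **the induced morphism to the free module is an epimorphism**. -/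
theorem epi_of_forall_combo [IsAlgClosed k] (N : X.Modules) {d : ℕ}
    (φ : Fin d → (N ⟶ unitMod X))
    (h : ∀ c : Fin d → k, c ≠ 0 → Epi (∑ i, c i • φ i)) :
    Epi (∑ i, φ i ≫ Sigma.ι (fun _ : Fin d => unitMod X) i : N ⟶ FlatMod.freeMod X d) := by
  haveI : IsNoetherian X := Groth.Agent.H5.Curve2.isNoetherian_of_proper k X
  obtain ⟨ψ, hψ⟩ : ∃ ψ : N ⟶ FlatMod.freeMod X d,
      ψ = ∑ i, φ i ≫ Sigma.ι (fun _ : Fin d => unitMod X) i := ⟨_, rfl⟩
  rw [← hψ]
  apply Preadditive.epi_of_isZero_cokernel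
  apply isZero_of_subsingleton_stalks
  intro y
  by_contra hy
  have hft : (cokernel ψ).IsFiniteType :=
    Groth.Agent.H4.PCS6.isFiniteType_of_epi' (cokernel.π ψ) (isCoh_freeMod X d).2
  have hcl := isClosed_support_of_isFiniteType (cokernel ψ) hft
  obtain ⟨x, hxy, hx⟩ := (isClosed_closure (s := ({y} : Set X))).exists_closed_singleton
    ⟨y, subset_closure rfl⟩
  have hxS : x ∈ {z : X | ¬ Subsingleton ((cokernel ψ).presheaf.stalk z)} :=
    (hcl.closure_subset_iff.mpr (Set.singleton_subset_iff.mpr hy)) hxy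
  apply hxS
  let Φ := DerSch.stalkFunctor X x
  have hsurj := stalk_surjective_of_forall_combo k X N φ h x hx
  rw [← hψ] at hsurj
  haveI : Epi (Φ.map (cokernel.π ψ)) := Φ.map_epi _
  have hs2 : Function.Surjective (Φ.map (cokernel.π ψ)).hom :=
    (ModuleCat.epi_iff_surjective _).mp inferInstance
  refine ⟨fun a b => ?_⟩
  have key : ∀ a : (cokernel ψ).presheaf.stalk x, a = 0 := by
    intro a
    obtain ⟨b, rfl⟩ := hs2 a
    obtain ⟨m, rfl⟩ := hsurj b
    have : (Φ.map (ψ ≫ cokernel.π ψ)).hom m = 0 := by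
      rw [cokernel.condition, Φ.map_zero]
      rfl
    rw [Functor.map_comp] at this
    exact this
  rw [key a, key b]

end Groth.Agent.H5.NegFilt
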