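import Mathlib
import Groth.Agent.Lib.Helper5.NegFilt.Stalk
import Groth.Agent.Lib.Helper5.Curve4.DegMonoCoh
import Groth.Agent.Lib.Helper5.Curve4.Sat2
import Groth.Agent.Lib.Helper5.Curve4.VB2
import Groth.Agent.Lib.Helper5.SD.MonoCrit
import Groth.Agent.Lib.Lead.QC.SerreSupp
import Groth.Agent.Lib.Lead.QC.SpanEpi
import Groth.Agent.Lib.Lead.Curve.InvMono

/-!
# Filtrations of sections-free subbundles of trivial bundles by negative line bundles (S12913).
-/

set_option autoImplicit false
set_option linter.style.haveILetI false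
universe u
open CategoryTheory CategoryTheory.Limits AlgebraicGeometry TopologicalSpace Opposite

namespace Groth.Agent.H5.NegFilt

open Groth.Agent.LD Groth.Agent.LD.QC Groth.Agent.LD.DF Groth.Agent.H5.Curve4 Groth.Agent.H5.SD

variable (k : Type u) [Field k] (X : Scheme.{u}) [X.Over (Spec (CommRingCat.of k))]
  [IsProper (X ↘ Spec (CommRingCat.of k))] [IsIntegral X]

omit [IsProper (X ↘ Spec (CommRingCat.of k))] [X.Over (Spec (CommRingCat.of k))] in
lemma not_isZero_of_rank_succ {N : X.Modules} {r : ℕ} (hN : FlatMod.IsFinLocFreeOfRank (r + 1) N) :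
    ¬ IsZero N := by
  intro hz
  have h1 := gdim_of_rank hN
  have h2 := gdim_of_isTors (isTors_of_isZero hz)
  omega

/-- **a nonzero morphism to the structure sheaf which is not an epimorphism.** -/
theorem exists_ne_zero_not_epi [IsAlgClosed k] (N : X.Modules) (r : ℕ)
    (hN : FlatMod.IsFinLocFreeOfRank (r + 1) N) (m : ℕ) (ι : N ⟶ FlatMod.freeMod X m) [Mono ι]
    (h0 : ∀ s : Γ(N, ⊤), s = 0) :
    ∃ φ : N ⟶ unitMod X, φ ≠ 0 ∧ ¬ Epi φ := by
  by_contra hcon
  have hall : ∀ φ : N ⟶ unitMod X, φ ≠ 0 → Epi φ := by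
    intro φ hφ
    by_contra hne
    exact hcon ⟨φ, hφ, hne⟩
  let φc : Fin m → (N ⟶ unitMod X) := fun i => ι ≫ freeModProj m i
  let L : (Fin m → k) →ₗ[k] (N ⟶ unitMod X) := Fintype.linearCombination k φc
  obtain ⟨W₁, hW⟩ := Submodule.exists_isCompl (LinearMap.ker L)
  let b := Module.finBasis k W₁
  obtain ⟨d, hd⟩ : ∃ d : ℕ, d = Module.finrank k W₁ := ⟨_, rfl⟩
  let φ' : Fin (Module.finrank k W₁) → (N ⟶ unitMod X) := fun a => L (b a : Fin m → k)
  have hcombo : ∀ c' : Fin (Module.finrank k W₁) → k, c' ≠ 0 → Epi (∑ a, c' a • φ' a) := by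
    intro c' hc'
    have h1 : ∑ a, c' a • φ' a = L ((∑ a, c' a • b a : W₁) : Fin m → k) := by
      rw [Submodule.coe_sum, map_sum]
      refine Finset.sum_congr rfl (fun a _ => ?_)
      rw [Submodule.coe_smul, map_smul]
    rw [h1]
    apply hall
    intro hL
    apply hc'
    have hw0 : ((∑ a, c' a • b a : W₁) : Fin m → k) = 0 :=
      Submodule.disjoint_def.mp hW.disjoint _ (LinearMap.mem_ker.mpr hL) (Subtype.mem _)
    have hw : (∑ a, c' a • b a : W₁) = 0 := Subtype.ext hw0
    funext a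
    exact Fintype.linearIndependent_iff.mp b.linearIndependent c' hw a
  obtain ⟨ψ, hψ⟩ : ∃ ψ : N ⟶ FlatMod.freeMod X (Module.finrank k W₁),
      ψ = ∑ a, φ' a ≫ Sigma.ι (fun _ : Fin (Module.finrank k W₁) => unitMod X) a := ⟨_, rfl⟩
  haveI hepi : Epi ψ := by
    rw [hψ]
    exact epi_of_forall_combo k X N φ' hcombo
  haveI hmono : Mono ψ := by
    apply Preadditive.mono_of_cancel_zero
    intro Z g hg
    have hg' : ∀ a, g ≫ φ' a = 0 := by
      intro a
      rw [← sum_ι_proj X N φ' a, ← hψ, ← Category.assoc, hg, zero_comp]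
    have hgL : ∀ w : W₁, g ≫ L (w : Fin m → k) = 0 := by
      intro w
      have h1 : L (w : Fin m → k) = ∑ a, b.repr w a • φ' a := by
        conv_lhs => rw [← b.sum_repr w]
        rw [Submodule.coe_sum, map_sum]
        refine Finset.sum_congr rfl (fun a _ => ?_)
        rw [Submodule.coe_smul, map_smul]
      rw [h1, Preadditive.comp_sum]
      apply Finset.sum_eq_zero
      intro a _
      rw [Linear.comp_smul, hg' a, smul_zero]
    have hgc : ∀ c : Fin m → k, g ≫ L c = 0 := by
      intro c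
      have hc : c ∈ LinearMap.ker L ⊔ W₁ := by
        rw [hW.sup_eq_top]
        exact Submodule.mem_top
      obtain ⟨w₀, hw₀, w₁, hw₁, rfl⟩ := Submodule.mem_sup.mp hc
      rw [map_add, LinearMap.mem_ker.mp hw₀, zero_add]
      exact hgL ⟨w₁, hw₁⟩
    have hgi : ∀ i, g ≫ ι ≫ freeModProj m i = 0 := by
      intro i
      have h1 : L (Pi.single i 1) = φc i := by
        rw [Fintype.linearCombination_apply_single, one_smul]
      have h2 := hgc (Pi.single i 1)
      rw [h1] at h2
      exact h2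
    have hgι : g ≫ ι = 0 := by
      rw [← Category.comp_id (g ≫ ι), ← freeMod_total, Preadditive.comp_sum]
      apply Finset.sum_eq_zero
      intro i _
      calc (g ≫ ι) ≫ freeModProj m i ≫ Sigma.ι (fun _ : Fin m => unitMod X) i
          = (g ≫ ι ≫ freeModProj m i) ≫ Sigma.ι (fun _ : Fin m => unitMod X) i := by
            simp only [Category.assoc]
        _ = 0 := by rw [hgi i, zero_comp]
    exact (cancel_mono ι).mp (hgι.trans zero_comp.symm)
  haveI : IsIso ψ := isIso_of_mono_of_epi ψ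
  have hNz := not_isZero_of_rank_succ X hN
  have hOz : ¬ IsZero (unitMod X) := by
    have hO1 : FlatMod.IsFinLocFreeOfRank (0 + 1) (unitMod X) :=
      (isInvertible_iff _).mp (isInvertible_unit X)
    exact not_isZero_of_rank_succ X hO1
  rcases Nat.eq_zero_or_pos (Module.finrank k W₁) with hd0 | hdpos
  · apply hNz
    have hz : IsZero (FlatMod.freeMod X (Module.finrank k W₁)) := by
      rw [hd0]
      exact isZero_freeMod_zero X
    exact hz.of_iso (asIso ψ)
  · let a₀ : Fin (Module.finrank k W₁) := ⟨0, hdpos⟩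
    let σ : unitMod X ⟶ N :=
      Sigma.ι (fun _ : Fin (Module.finrank k W₁) => unitMod X) a₀ ≫ inv ψ
    have hσ : σ = 0 := by
      rw [← homOfSection_sectionOfHom σ, h0 (sectionOfHom σ), homOfSection_zero]
    apply hOz
    rw [IsZero.iff_id_eq_zero]
    have h1 : Sigma.ι (fun _ : Fin (Module.finrank k W₁) => unitMod X) a₀ = 0 := by
      have : σ ≫ ψ = Sigma.ι (fun _ : Fin (Module.finrank k W₁) => unitMod X) a₀ := by
        simp only [σ, Category.assoc, IsIso.inv_hom_id, Category.comp_id]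
      rw [← this, hσ, zero_comp]
    have h2 : Sigma.ι (fun _ : Fin (Module.finrank k W₁) => unitMod X) a₀ ≫
        freeModProj (Module.finrank k W₁) a₀ = 𝟙 (unitMod X) := by
      rw [freeModProj, Sigma.ι_desc, if_pos rfl]
    rw [← h2, h1, zero_comp]

/-- **the step**: the kernel of a nonzero non-epimorphic `φ : N ⟶ O`. -/
theorem kernel_facts (hdim : topologicalKrullDim X = 1)
    (hreg : ∀ x : X, IsRegularLocalRing (X.presheaf.stalk x))
    (N : X.Modules) (r : ℕ) (hN : FlatMod.IsFinLocFreeOfRank (r + 1) N)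
    (φ : N ⟶ unitMod X) (hφ : φ ≠ 0) (hne : ¬ Epi φ) :
    FlatMod.IsFinLocFreeOfRank r (kernel φ) ∧ PicF.IsInvertible (cokernel (kernel.ι φ)) ∧
      Curv2.deg k X (cokernel (kernel.ι φ)) 1 < 0 := by
  haveI : IsNoetherian X := Groth.Agent.H5.Curve2.isNoetherian_of_proper k X
  have hNc : Coh.IsCoh N := Curve.isCoh_of_rank hN
  have hO1 : FlatMod.IsFinLocFreeOfRank 1 (unitMod X) :=
    (isInvertible_iff _).mp (isInvertible_unit X)
  have hOc : Coh.IsCoh (unitMod X) := Curve.isCoh_of_rank hO1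
  have hKc : Coh.IsCoh (kernel φ) := isCoh_kernel φ hNc hOc
  have hTc : Coh.IsCoh (cokernel (kernel.ι φ)) := isCoh_cokernel _ hKc hNc
  let μ : cokernel (kernel.ι φ) ⟶ unitMod X := Abelian.factorThruCoimage φ
  haveI : Mono μ := inferInstanceAs (Mono (Abelian.factorThruCoimage φ))
  have hfac : cokernel.π (kernel.ι φ) ≫ μ = φ := Abelian.coimage.fac φ
  have hTlf : FlatMod.IsFinLocFree (cokernel (kernel.ι φ)) :=
    isFinLocFree_of_mono_of_regular hreg hdim.le μ hTc (Curve.isFinLocFree_of_rank hO1)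
  obtain ⟨t, ht⟩ := exists_rank hTlf
  have hCc : Coh.IsCoh (cokernel μ) := isCoh_cokernel μ hTc hOc
  -- generic ranks
  let S₁ : ShortComplex X.Modules := ShortComplex.mk μ (cokernel.π μ) (cokernel.condition μ)
  have hS₁ : S₁.ShortExact :=
    { exact := ShortComplex.exact_cokernel μ
      mono_f := inferInstanceAs (Mono μ)
      epi_g := inferInstanceAs (Epi (cokernel.π μ)) }
  have hg1 := gdim_add S₁ hS₁ hTc hCc
  have hg1' : gdim (unitMod X) = gdim (cokernel (kernel.ι φ)) + gdim (cokernel μ) := hg1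
  rw [gdim_of_rank hO1, gdim_of_rank ht] at hg1'
  have ht0 : t ≠ 0 := by
    rintro rfl
    apply hφ
    have hz : IsZero (cokernel (kernel.ι φ)) := isZero_of_rank_zero ht
    rw [← hfac, hz.eq_of_src μ 0, comp_zero]
  have ht1 : t = 1 := by omega
  have hgc : gdim (cokernel μ) = 0 := by omega
  subst ht1
  have hTinv : PicF.IsInvertible (cokernel (kernel.ι φ)) := (isInvertible_iff _).mpr ht
  have hgen : Subsingleton ((cokernel μ).presheaf.stalk (genericPoint X)) :=
    isTors_of_gdim_eq_zero hCc hgc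
  obtain ⟨hle, hiff⟩ := deg_le_of_mono_generic_iso k X hdim.le 1 hTc hOc μ hgen
  have hdegO : Curv2.deg k X (unitMod X) 1 = 0 := Curve.deg_structureModule k X
  have hlt : Curv2.deg k X (cokernel (kernel.ι φ)) 1 < 0 := by
    rcases lt_or_eq_of_le hle with h | h
    · rw [hdegO] at h
      exact h
    · exfalso
      apply hne
      haveI : IsIso μ := hiff.mp h
      rw [← hfac]
      infer_instance
  refine ⟨?_, hTinv, hlt⟩
  -- the kernel
  have hKlf : FlatMod.IsFinLocFree (kernel φ) :=
    isFinLocFree_of_mono_of_regular hreg hdim.le (kernel.ι φ) hKc (Curve.isFinLocFree_of_rank hN)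
  obtain ⟨s, hs⟩ := exists_rank hKlf
  let S₂ : ShortComplex X.Modules :=
    ShortComplex.mk (kernel.ι φ) (cokernel.π (kernel.ι φ)) (cokernel.condition _)
  have hS₂ : S₂.ShortExact :=
    { exact := ShortComplex.exact_cokernel (kernel.ι φ)
      mono_f := inferInstanceAs (Mono (kernel.ι φ))
      epi_g := inferInstanceAs (Epi (cokernel.π (kernel.ι φ))) }
  have hg2 := gdim_add S₂ hS₂ hKc hTc
  have hg2' : gdim N = gdim (kernel φ) + gdim (cokernel (kernel.ι φ)) := hg2
  rw [gdim_of_rank hN, gdim_of_rank hs, gdim_of_rank ht] at hg2'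
  have : s = r := by omega
  exact this ▸ hs

end Groth.Agent.H5.NegFilt
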