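import Mathlib
import Groth.Agent.Lib.Helper5.NegFilt.Step
import Groth.Agent.Lib.Lead.QC.AmpleIso
import Groth.Agent.Lib.Lead.Curve.Euler

/-!
# S12913: filtration by negative line bundles.
-/

set_option autoImplicit false
set_option linter.style.haveILetI false
universe u
open CategoryTheory CategoryTheory.Limits AlgebraicGeometry TopologicalSpace Opposite

namespace Groth.Agent.H5.NegFilt

open Groth.Agent.LD Groth.Agent.LD.QC Groth.Agent.LD.DF Groth.Agent.H5.Curve4 Groth.Agent.H5.SD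

variable (k : Type u) [Field k] (X : Scheme.{u}) [X.Over (Spec (CommRingCat.of k))]
  [IsProper (X ↘ Spec (CommRingCat.of k))] [IsIntegral X]

variable {X} in
/-- prepend a term to a sequence of modules. -/
noncomputable def consM (N : X.Modules) (M' : ℕ → X.Modules) : ℕ → X.Modules
  | 0 => N
  | n + 1 => M' n

variable {X} in
/-- prepend a morphism to a sequence of morphisms. -/
noncomputable def consF (N : X.Modules) (M' : ℕ → X.Modules) (f' : ∀ j, M' (j + 1) ⟶ M' j)
    (g : M' 0 ⟶ N) : ∀ j, consM N M' (j + 1) ⟶ consM N M' j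
  | 0 => g
  | n + 1 => f' n

omit [IsProper (X ↘ Spec (CommRingCat.of k))] [X.Over (Spec (CommRingCat.of k))] [IsIntegral X] in
lemma sections_eq_zero_of_mono {K N : X.Modules} (j : K ⟶ N) [Mono j]
    (h0 : ∀ s : Γ(N, ⊤), s = 0) (s : Γ(K, ⊤)) : s = 0 := by
  have h1 : homOfSection K s ≫ j = 0 := by
    rw [homOfSection_comp, h0 (j.app ⊤ s), homOfSection_zero]
  have h2 : homOfSection K s = 0 := (cancel_mono j).mp (h1.trans zero_comp.symm)
  rw [← sectionOfHom_homOfSection K s, h2, sectionOfHom_zero]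

theorem exists_filtration_nat [IsAlgClosed k] (hdim : topologicalKrullDim X = 1)
    (hreg : ∀ x : X, IsRegularLocalRing (X.presheaf.stalk x)) (m : ℕ) :
    ∀ (r : ℕ) (N : X.Modules), FlatMod.IsFinLocFreeOfRank r N →
      ∀ (ι : N ⟶ FlatMod.freeMod X m), Mono ι → (∀ s : Γ(N, ⊤), s = 0) →
      ∃ (M : ℕ → X.Modules) (f : ∀ j : ℕ, M (j + 1) ⟶ M j), Nonempty (M 0 ≅ N) ∧ IsZero (M r) ∧
        ∀ j, j < r → Mono (f j) ∧ PicF.IsInvertible (cokernel (f j)) ∧
          Curv2.deg k X (cokernel (f j)) 1 < 0 := by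
  intro r
  induction r with
  | zero =>
    intro N hN ι _ h0
    exact ⟨fun _ => N, fun _ => 𝟙 N, ⟨Iso.refl N⟩, isZero_of_rank_zero hN,
      fun j hj => absurd hj (Nat.not_lt_zero j)⟩
  | succ r ih =>
    intro N hN ι hι h0
    haveI := hι
    obtain ⟨φ, hφ, hne⟩ := exists_ne_zero_not_epi k X N r hN m ι h0
    obtain ⟨hK, hinv, hdeg⟩ := kernel_facts k X hdim hreg N r hN φ hφ hne
    have hK0 : ∀ s : Γ(kernel φ, ⊤), s = 0 := sections_eq_zero_of_mono X (kernel.ι φ) h0
    obtain ⟨M', f', ⟨e'⟩, hz', hall'⟩ := ih (kernel φ) hK (kernel.ι φ ≫ ι) inferInstance hK0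
    refine ⟨consM N M', consF N M' f' (e'.hom ≫ kernel.ι φ), ⟨Iso.refl N⟩, hz', ?_⟩
    intro j hj
    cases j with
    | zero =>
      change Mono (e'.hom ≫ kernel.ι φ) ∧ PicF.IsInvertible (cokernel (e'.hom ≫ kernel.ι φ)) ∧
        Curv2.deg k X (cokernel (e'.hom ≫ kernel.ι φ)) 1 < 0
      let ec : cokernel (e'.hom ≫ kernel.ι φ) ≅ cokernel (kernel.ι φ) :=
        cokernelEpiComp e'.hom (kernel.ι φ)
      refine ⟨inferInstance, isInvertible_of_iso ec.symm hinv, ?_⟩
      rw [Curve.deg_iso k X ec 1]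
      exact hdeg
    | succ n =>
      exact hall' n (by omega)

end Groth.Agent.H5.NegFilt
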